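import Groth.Agent.ProperMeetLib.Basic

/-!
Proper intersection with a subscheme cut out by `c` equations is a bound on dimensions.
-/

set_option autoImplicit false
set_option linter.style.haveILetI false
set_option backward.isDefEq.respectTransparency false

universe u v

open CategoryTheory AlgebraicGeometry Topology TopologicalSpace Groth.Agent.DimFormulaLib

namespace Groth.Agent.ProperMeetLib

/-- The dimension of a subspace is bounded by the dimensions of its pieces, if every irreducible subset lies in one. -/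
theorem topologicalKrullDim_le_of_forall_irreducible {T : Type v} [TopologicalSpace T] (D : WithBot ℕ∞)
    (h : ∀ A : Set T, IsIrreducible A → ∃ B : Set T, A ⊆ B ∧ topologicalKrullDim ↥B ≤ D) :
    topologicalKrullDim T ≤ D := by
  refine iSup_le fun s => ?_
  obtain ⟨B, hB, hd⟩ := h _ s.last.isIrreducible
  refine le_trans ?_ hd
  have hsub : ∀ i, (s i : Set T) ⊆ B := fun i x hx => hB ((show s i ≤ s.last from s.monotone (Fin.le_last i)) hx)
  let g : Fin (s.length + 1) → IrreducibleCloseds ↥B := fun i =>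
    ⟨Subtype.val ⁻¹' (s i : Set T), by
      refine ⟨?_, fun U V hU hV hU' hV' => ?_⟩
      · obtain ⟨x, hx⟩ := (s i).isIrreducible.1
        exact ⟨⟨x, hsub i hx⟩, hx⟩
      · obtain ⟨U', hU1, rfl⟩ := isOpen_induced_iff.1 hU
        obtain ⟨V', hV1, rfl⟩ := isOpen_induced_iff.1 hV
        obtain ⟨u, hu, hu'⟩ := hU'
        obtain ⟨v, hv, hv'⟩ := hV'
        obtain ⟨w, hw, hw1, hw2⟩ := (s i).isIrreducible.2 U' V' hU1 hV1 ⟨u.1, hu, hu'⟩ ⟨v.1, hv, hv'⟩
        exact ⟨⟨w, hsub i hw⟩, hw, hw1, hw2⟩,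
      (s i).isClosed.preimage continuous_subtype_val⟩
  have hg : ∀ i : Fin s.length, g i.castSucc < g i.succ := fun i => by
    have hlt : s i.castSucc < s i.succ := s.step i
    refine lt_of_le_of_ne (fun x hx => hlt.le hx) fun he => hlt.not_ge fun x hx => ?_
    have : (⟨x, hsub _ hx⟩ : ↥B) ∈ g i.succ := hx
    rw [← he] at this
    exact this
  exact le_iSup_of_le ⟨s.length, g, hg⟩ le_rfl

variable {k : Type u} [Field k] {C X W : Scheme.{u}} (qC : C ⟶ Spec (CommRingCat.of k)) [LocallyOfFiniteType qC]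
  (π : C ⟶ X) (ι : W ⟶ X) (c : ℕ)
  (hι : ∀ w : W, ∃ U : X.affineOpens, ι w ∈ U.1 ∧ IsClosedImmersion (ι ∣_ U.1) ∧
    ∃ rs : List Γ(X, U.1), rs.length ≤ c ∧ RingHom.ker (ι.app U.1).hom = Ideal.ofList rs)

include qC hι in
/-- Every component of `P ∩ π⁻¹(range ι)` has dimension at least `dim P - c`. -/
theorem le_dim_component_add {P : Set C} (hP : P ∈ irreducibleComponents (C : Type u))
    {Q : Set ↥(P ∩ π ⁻¹' Set.range ι)} (hQ : Q ∈ irreducibleComponents ↥(P ∩ π ⁻¹' Set.range ι)) :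
    ∃ n t : ℕ, topologicalKrullDim ↥P = n ∧ n ≤ t + c ∧ (t : WithBot ℕ∞) ≤ topologicalKrullDim ↥Q := by
  have hPc := isClosed_of_mem_irreducibleComponents P hP
  obtain ⟨η, hη, -⟩ := FlatDim.exists_generic_of_component hP
  let K : Set C := closure (Subtype.val '' Q)
  have hKi : IsIrreducible K := (hQ.1.image _ continuous_subtype_val.continuousOn).closure
  obtain ⟨ζ, hζ⟩ := QuasiSober.sober hKi isClosed_closure
  have hζP : ζ ∈ P := closure_minimal (by rintro _ ⟨y, -, rfl⟩; exact y.2.1) hPc hζ.mem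
  obtain ⟨z0, hz0⟩ := hQ.1.1
  have hζr : π ζ ∈ Set.range ι := by
    obtain ⟨w, hw⟩ := z0.2.2
    obtain ⟨U, hwU, hc, -⟩ := hι w
    have hzU : π ζ ∈ U.1 := hζ.mem_open_set_iff (π ⁻¹ᵁ U.1).2 |>.2
      ⟨z0.1, subset_closure ⟨z0, hz0, rfl⟩, by show π z0.1 ∈ U.1; rw [← hw]; exact hwU⟩
    rw [mem_range_iff ι hc hzU]
    intro r hr hb
    obtain ⟨x, hx, y, hy, rfl⟩ := mem_closure_iff.1 hζ.mem _ (π ⁻¹ᵁ X.basicOpen r).2 hb
    exact (mem_range_iff ι hc (X.basicOpen_le r hx)).1 y.2.2 r hr hx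
  have hQc := isClosed_of_mem_irreducibleComponents Q hQ
  have hζQ : (⟨ζ, hζP, hζr⟩ : ↥(P ∩ π ⁻¹' Set.range ι)) ∈ Q := by
    rw [← hQc.closure_eq, closure_subtype]
    exact hζ.mem
  have hmax : ∀ w : C, η ⤳ w → w ⤳ ζ → π w ∈ Set.range ι → w = ζ := by
    intro w hηw hwζ hwr
    have hwP : w ∈ P := hη ▸ hηw.mem_closure
    let w' : ↥(P ∩ π ⁻¹' Set.range ι) := ⟨w, hwP, hwr⟩
    have hsub : Q ⊆ closure {w'} := fun y hy => by
      rw [closure_subtype, Set.image_singleton]
      exact hwζ.closure_subset (hζ.def.symm ▸ subset_closure ⟨y, hy, rfl⟩)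
    have hw'Q : w' ∈ Q := hQ.2 isIrreducible_singleton.closure hsub (subset_closure rfl)
    exact (hwζ.antisymm (hζ.specializes (subset_closure ⟨w', hw'Q, rfl⟩))).eq
  obtain ⟨n, t, S, _, j, _, hn, hle, hζj, -, hcl, ht⟩ := le_dim_closure_add k qC π ι c hι η ζ
    (specializes_iff_mem_closure.2 (hη.symm ▸ hζP)) hζr hmax
  refine ⟨n, t, hη ▸ hn, hle, ht ▸ ?_⟩
  have hmem : ∀ x, x ∈ closure ({ζ} : Set C) ∩ Set.range j → x ∈ π ⁻¹' Set.range ι := fun x hx => by
    have h1 : (⟨ζ, hζj⟩ : Set.range j) ⤳ ⟨x, hx.2⟩ := subtype_specializes_iff _ _ |>.2 (specializes_iff_mem_closure.2 hx.1)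
    exact h1.mem_closed hcl hζr
  have hin : ∀ x (hx : x ∈ closure ({ζ} : Set C) ∩ Set.range j),
      (⟨x, closure_minimal (Set.singleton_subset_iff.2 hζP) hPc hx.1, hmem x hx⟩ : ↥(P ∩ π ⁻¹' Set.range ι)) ∈ Q :=
    fun x hx => (subtype_specializes_iff _ _ |>.2 (specializes_iff_mem_closure.2 hx.1) :
      (⟨ζ, hζP, hζr⟩ : ↥(P ∩ π ⁻¹' Set.range ι)) ⤳
        ⟨x, closure_minimal (Set.singleton_subset_iff.2 hζP) hPc hx.1, hmem x hx⟩).mem_closed hQc hζQ
  let g : ↥(closure ({ζ} : Set C) ∩ Set.range j) → ↥Q := fun x => ⟨_, hin x.1 x.2⟩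
  have hg : IsInducing g := by
    refine IsInducing.of_comp (g := fun y : ↥Q => (y.1.1 : C)) ?_ (continuous_subtype_val.comp continuous_subtype_val) ?_
    · exact (continuous_subtype_val.subtype_mk _).subtype_mk _
    · exact IsInducing.subtypeVal
  exact hg.topologicalKrullDim_le

include qC hι in
/-- Proper intersection is equivalent to the bound on the dimension of the preimage. -/
theorem dim_iff (n : ℕ) (hC : ∀ P ∈ irreducibleComponents (C : Type u), topologicalKrullDim P = n) :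
    (∀ P ∈ irreducibleComponents (C : Type u), ∀ Q ∈ irreducibleComponents (P ∩ π ⁻¹' Set.range ι : Set C),
        topologicalKrullDim Q + (c : WithBot ℕ∞) = n) ↔
      topologicalKrullDim (π ⁻¹' Set.range ι : Set C) + (c : WithBot ℕ∞) ≤ n := by
  constructor
  · intro h
    rcases le_or_gt c n with hcn | hnc
    · refine le_trans (add_le_add (topologicalKrullDim_le_of_forall_irreducible ((n - c : ℕ) : WithBot ℕ∞) fun A hA => ?_) le_rfl) ?_
      · obtain ⟨P, hP, hAP⟩ := exists_mem_irreducibleComponents_subset_of_isIrreducible (Subtype.val '' A : Set C)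
          (hA.image _ continuous_subtype_val.continuousOn)
        let incl : ↥(P ∩ π ⁻¹' Set.range ι) → ↥(π ⁻¹' Set.range ι) := fun x => ⟨x.1, x.2.2⟩
        have hind : IsInducing incl :=
          IsInducing.of_comp (continuous_subtype_val.subtype_mk _) continuous_subtype_val IsInducing.subtypeVal
        have hA' : IsIrreducible (incl ⁻¹' A) := by
          refine ⟨?_, fun U V hU hV hU' hV' => ?_⟩
          · obtain ⟨x, hx⟩ := hA.1
            exact ⟨⟨x.1, hAP ⟨x, hx, rfl⟩, x.2⟩, hx⟩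
          · obtain ⟨U', hU1, rfl⟩ := hind.isOpen_iff.1 hU
            obtain ⟨V', hV1, rfl⟩ := hind.isOpen_iff.1 hV
            obtain ⟨u, hu, hu'⟩ := hU'
            obtain ⟨v, hv, hv'⟩ := hV'
            obtain ⟨w, hw, hw1, hw2⟩ := hA.2 U' V' hU1 hV1 ⟨incl u, hu, hu'⟩ ⟨incl v, hv, hv'⟩
            exact ⟨⟨w.1, hAP ⟨w, hw, rfl⟩, w.2⟩, hw, hw1, hw2⟩
        obtain ⟨Q, hQ, hAQ⟩ := exists_mem_irreducibleComponents_subset_of_isIrreducible _ hA'
        refine ⟨incl '' Q, fun x hx => ⟨⟨x.1, hAP ⟨x, hx, rfl⟩, x.2⟩, hAQ hx, rfl⟩, ?_⟩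
        have hemb : IsEmbedding incl := ⟨hind, fun a b hab => Subtype.ext (congrArg (fun z : ↥(π ⁻¹' Set.range ι) => (z : C)) hab)⟩
        rw [← IsHomeomorph.topologicalKrullDim_eq _ (hemb.homeomorphImage Q).isHomeomorph]
        obtain ⟨n', t, hn', -, ht⟩ := le_dim_component_add qC π ι c hι hP hQ
        have h1 := h P hP Q hQ
        revert h1
        generalize topologicalKrullDim ↥Q = d
        intro h1
        induction d using WithBot.recBotCoe with
        | bot => exact bot_le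
        | coe e =>
          induction e using ENat.recTopCoe with
          | top => exact absurd (WithBot.coe_injective h1) (by simp)
          | coe m =>
            have : m + c = n := by exact_mod_cast h1
            exact WithBot.coe_le_coe.2 (Nat.cast_le.2 (show m ≤ n - c by omega))
      · exact_mod_cast (Nat.sub_add_cancel hcn).le
    · have : IsEmpty ↥(π ⁻¹' Set.range ι : Set C) := ⟨fun x => by
        obtain ⟨P, hP, hxP⟩ := exists_mem_irreducibleComponents_subset_of_isIrreducible ({x.1} : Set C) isIrreducible_singleton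
        obtain ⟨Q, hQ, -⟩ := exists_mem_irreducibleComponents_subset_of_isIrreducible
          ({⟨x.1, hxP rfl, x.2⟩} : Set ↥(P ∩ π ⁻¹' Set.range ι)) isIrreducible_singleton
        obtain ⟨n', t, -, -, ht⟩ := le_dim_component_add qC π ι c hι hP hQ
        have h1 := (add_le_add ht (le_refl (c : WithBot ℕ∞))).trans (h P hP Q hQ).le
        norm_cast at h1
        omega⟩
      haveI : IsEmpty (IrreducibleCloseds ↥(π ⁻¹' Set.range ι : Set C)) := ⟨fun A => A.isIrreducible.1.elim fun x _ => isEmptyElim x⟩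
      rw [topologicalKrullDim, Order.krullDim_eq_bot, WithBot.bot_add]
      exact bot_le
  · intro h P hP Q hQ
    obtain ⟨n', t, hn', hle, ht⟩ := le_dim_component_add qC π ι c hι hP hQ
    rw [hC P hP] at hn'
    have hn : n = n' := by exact_mod_cast hn'
    refine le_antisymm (le_trans (add_le_add ?_ le_rfl) h) ?_
    · let incl : ↥Q → ↥(π ⁻¹' Set.range ι) := fun y => ⟨y.1.1, y.1.2.2⟩
      have hind : IsInducing incl := IsInducing.of_comp ((continuous_subtype_val.comp continuous_subtype_val).subtype_mk _)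
        continuous_subtype_val ((IsInducing.subtypeVal (t := (P ∩ π ⁻¹' Set.range ι : Set C))).comp
          (IsInducing.subtypeVal (t := Q)))
      exact hind.topologicalKrullDim_le
    · refine le_trans ?_ (add_le_add ht le_rfl)
      exact_mod_cast hn ▸ hle

end Groth.Agent.ProperMeetLib
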