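import Groth.Agent.FlatDim.Trdeg
import Groth.Prelude.Def_RegImm

/-!
The dimension of the components of the preimage of a subscheme cut out locally by `c` equations.
-/

set_option autoImplicit false
set_option linter.style.haveILetI false
set_option backward.isDefEq.respectTransparency false

universe u

open CategoryTheory AlgebraicGeometry Groth.Agent.DimFormulaLib

namespace Groth.Agent.ProperMeetLib

variable {X W : Scheme.{u}}

/-- Over an affine open where `ι` restricts to a closed immersion, its range is the zero locus of the kernel. -/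
theorem mem_range_iff (ι : W ⟶ X) {U : X.affineOpens} (hc : IsClosedImmersion (ι ∣_ U.1)) {x : X} (hx : x ∈ U.1) :
    x ∈ Set.range ι ↔ ∀ r ∈ RingHom.ker (ι.app U.1).hom, x ∉ X.basicOpen r := by
  constructor
  · rintro ⟨w, rfl⟩ r hr hb
    have h : w ∈ ι ⁻¹ᵁ X.basicOpen r := hb
    rw [Scheme.preimage_basicOpen, show ι.app U.1 r = 0 from hr, Scheme.basicOpen_zero] at h
    exact h
  · intro h
    by_contra hxr
    haveI : IsAffine U.1.toScheme := U.2
    haveI := hc
    have hWaff : IsAffineOpen (ι ⁻¹ᵁ U.1) := isAffine_of_isAffineHom (ι ∣_ U.1)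
    have hcl := (ι ∣_ U.1).isClosedEmbedding.isClosed_range
    have hxU : (⟨x, hx⟩ : U.1.toScheme) ∈ (Set.range (ι ∣_ U.1))ᶜ := by
      rintro ⟨z, hz⟩
      refine hxr ⟨(ι ⁻¹ᵁ U.1).ι z, ?_⟩
      rw [← Scheme.Hom.comp_apply, ← morphismRestrict_ι, Scheme.Hom.comp_apply, hz]
      rfl
    obtain ⟨V, hV, hVeq⟩ := isOpen_induced_iff.1 hcl.isOpen_compl
    have hxV : x ∈ V := by
      have : (⟨x, hx⟩ : U.1.toScheme) ∈ Subtype.val ⁻¹' V := by rw [hVeq]; exact hxU
      exact this
    obtain ⟨r, hrle, hxr'⟩ := U.2.exists_basicOpen_le (V := ⟨V, hV⟩) ⟨x, hxV⟩ hx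
    have hempty : W.basicOpen (ι.app U.1 r) = ⊥ := by
      rw [← Scheme.preimage_basicOpen]
      refine eq_bot_iff.2 fun z hz => ?_
      have hzU : z ∈ ι ⁻¹ᵁ U.1 := X.basicOpen_le r hz
      exfalso
      have h1 : (ι ∣_ U.1) ⟨z, hzU⟩ ∈ Subtype.val ⁻¹' V := by
        show U.1.ι ((ι ∣_ U.1) ⟨z, hzU⟩) ∈ V
        rw [← Scheme.Hom.comp_apply, morphismRestrict_ι, Scheme.Hom.comp_apply]
        exact hrle hz
      rw [hVeq] at h1
      exact h1 ⟨_, rfl⟩
    obtain ⟨n, hn⟩ := AlgebraicGeometry.exists_pow_mul_eq_zero_of_res_basicOpen_eq_zero_of_isCompact W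
      hWaff.isCompact 1 (ι.app U.1 r) (by
        have hs : Subsingleton Γ(W, W.basicOpen (ι.app U.1 r)) := by rw [hempty]; infer_instance
        exact Subsingleton.elim _ _)
    refine h (r ^ (n + 1)) ?_ (by rwa [X.basicOpen_pow r n.succ_pos])
    rw [mul_one] at hn
    rw [RingHom.mem_ker, map_pow, pow_succ, hn, zero_mul]

variable {C : Scheme.{u}} (k : Type u) [Field k]

/-- A maximal point of `P ∩ π⁻¹(range ι)`, for `ι` cut out by `c` equations, has closure of dimension at least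
`dim P - c`. -/
theorem le_dim_closure_add (qC : C ⟶ Spec (CommRingCat.of k)) [LocallyOfFiniteType qC] (π : C ⟶ X) (ι : W ⟶ X)
    (c : ℕ) (hι : ∀ w : W, ∃ U : X.affineOpens, ι w ∈ U.1 ∧ IsClosedImmersion (ι ∣_ U.1) ∧
      ∃ rs : List Γ(X, U.1), rs.length ≤ c ∧ RingHom.ker (ι.app U.1).hom = Ideal.ofList rs)
    (η ζ : C) (hηζ : η ⤳ ζ) (hζ : π ζ ∈ Set.range ι)
    (hmax : ∀ w : C, η ⤳ w → w ⤳ ζ → π w ∈ Set.range ι → w = ζ) :
    ∃ (n t : ℕ) (S : Type u) (_ : CommRing S) (j : Spec (CommRingCat.of S) ⟶ C) (_ : IsOpenImmersion j),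
      topologicalKrullDim ↥(closure ({η} : Set C)) = n ∧ n ≤ t + c ∧ ζ ∈ Set.range j ∧
      π ⁻¹' Set.range ι ∩ Set.range j ⊆ π ⁻¹' Set.range ι ∧
      IsClosed (Subtype.val ⁻¹' (π ⁻¹' Set.range ι) : Set (Set.range j)) ∧
      topologicalKrullDim ↥(closure ({ζ} : Set C) ∩ Set.range j) = t := by
  classical
  obtain ⟨w₀, hw₀⟩ := hζ
  obtain ⟨U, hU, hc, rs, hlen, hker⟩ := hι w₀
  obtain ⟨S, j, hj, hζj, hsub⟩ := Scheme.exists_affine_mem_range_and_range_subset
    (show ζ ∈ π ⁻¹ᵁ U.1 from show π ζ ∈ U.1 by rw [← hw₀]; exact hU)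
  let σ : CommRingCat.of k ⟶ S := Spec.preimage (j ≫ qC)
  letI : Algebra k S := σ.hom.toAlgebra
  haveI : Algebra.FiniteType k S := by
    have : σ.hom.FiniteType := (HasRingHomProperty.Spec_iff (P := @LocallyOfFiniteType)).1
      (by rw [Spec.map_preimage]; infer_instance)
    exact this
  haveI : IsNoetherianRing S := Algebra.FiniteType.isNoetherianRing k S
  obtain ⟨q, hq⟩ := hζj
  let ch : Chart qC ζ :=
    { A := k, B := S, i := 𝟙 _, j := j, q := q, hq := hq,
      w := by rw [Category.comp_id]; exact (Spec.map_preimage (j ≫ qC)).symm }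
  obtain ⟨p, hpq, hp⟩ := ch.exists_le hηζ
  have htr : ∀ P : PrimeSpectrum S, resTrdegAt qC (j P) = Algebra.trdeg k (S ⧸ P.asIdeal) := fun P => by
    rw [show resTrdegAt qC (j P) = _ from ch.resTrdegAt_eq P]
    have hbot : (PrimeSpectrum.comap (algebraMap k S) P).asIdeal = ⊥ :=
      (Ideal.eq_bot_or_top _).resolve_right (PrimeSpectrum.comap (algebraMap k S) P).2.ne_top
    exact trdeg_eq_of_ringEquiv ((Ideal.quotEquivOfEq hbot).trans (RingEquiv.quotientBot k)) (RingEquiv.refl _) fun x => by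
      obtain ⟨x, rfl⟩ := Ideal.Quotient.mk_surjective x
      rfl
  obtain ⟨n, hn, hndim⟩ := FlatDim.topologicalKrullDim_closure k qC η
  obtain ⟨t, ht⟩ := exists_nat_trdeg_quotient k S q.asIdeal
  have hn' : Algebra.trdeg k (S ⧸ p.asIdeal) = n := by
    rw [← htr, show j p = η from hp, hn]
  obtain ⟨a, ha, hnat⟩ := trdeg_eq_relHeight_add k S (show p ≤ q from hpq) n t hn' ht
  -- the equations on the chart
  have hle : (⊤ : (Spec S).Opens) ≤ (j ≫ π) ⁻¹ᵁ U.1 := fun z _ => hsub ⟨z, rfl⟩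
  let φ : Γ(X, U.1) →+* S := ((Scheme.ΓSpecIso S).hom.hom).comp ((j ≫ π).appLE U.1 ⊤ hle).hom
  have hφ : ∀ (r : Γ(X, U.1)) (z : PrimeSpectrum S), π (j z) ∈ X.basicOpen r ↔ φ r ∉ z.asIdeal := by
    intro r z
    have h1 : (z : Spec S) ∈ (Spec S).basicOpen ((j ≫ π).appLE U.1 ⊤ hle r) ↔ π (j z) ∈ X.basicOpen r := by
      rw [Scheme.basicOpen_appLE, top_inf_eq]
      rfl
    rw [← h1, basicOpen_eq_of_affine']
    rfl
  have hmem : ∀ z : PrimeSpectrum S, π (j z) ∈ Set.range ι ↔ Ideal.span (φ '' {r | r ∈ rs}) ≤ z.asIdeal := by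
    intro z
    rw [mem_range_iff ι hc (show π (j z) ∈ U.1 from hsub ⟨z, rfl⟩), hker, Ideal.span_le]
    constructor
    · rintro h _ ⟨r, hr, rfl⟩
      by_contra hn
      exact h r (Ideal.subset_span hr) ((hφ r z).2 hn)
    · intro h r hr hb
      refine (hφ r z).1 hb ?_
      have : Ideal.ofList rs ≤ z.asIdeal.comap φ := Ideal.span_le.2 fun x hx => h ⟨x, hx, rfl⟩
      exact this hr
  -- Krull
  let f := (Ideal.Quotient.mk p.asIdeal).comp φ
  let s : Finset (S ⧸ p.asIdeal) := rs.toFinset.image f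
  let q' := q.asIdeal.map (Ideal.Quotient.mk p.asIdeal)
  have hq'c : q'.comap (Ideal.Quotient.mk p.asIdeal) = q.asIdeal := by
    rw [Ideal.comap_map_of_surjective _ Ideal.Quotient.mk_surjective, ← RingHom.ker_eq_comap_bot, Ideal.mk_ker]
    exact sup_eq_left.2 hpq
  haveI : q'.IsPrime := Ideal.map_isPrime_of_surjective Ideal.Quotient.mk_surjective (by rw [Ideal.mk_ker]; exact hpq)
  have hζmem : π (j q) ∈ Set.range ι := ⟨w₀, by rw [hw₀]; exact congrArg π hq.symm⟩
  have hmin : q' ∈ (Ideal.span (s : Set (S ⧸ p.asIdeal))).minimalPrimes := by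
    refine ⟨⟨inferInstance, Ideal.span_le.2 fun x hx => ?_⟩, fun J hJ hJq => ?_⟩
    · obtain ⟨r, hr, rfl⟩ := Finset.mem_image.1 (Finset.mem_coe.1 hx)
      exact Ideal.mem_map_of_mem _ ((hmem q).1 hζmem (Ideal.subset_span ⟨r, List.mem_toFinset.1 hr, rfl⟩))
    · haveI := hJ.1
      let z : PrimeSpectrum S := ⟨J.comap (Ideal.Quotient.mk p.asIdeal), inferInstance⟩
      have hpz : p ≤ z := fun x hx => by
        show Ideal.Quotient.mk p.asIdeal x ∈ J
        rw [Ideal.Quotient.eq_zero_iff_mem.2 hx]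
        exact J.zero_mem
      have hzq : z ≤ q := (Ideal.comap_mono hJq).trans hq'c.le
      have hzr : π (j z) ∈ Set.range ι := (hmem z).2 (Ideal.span_le.2 (by
        rintro _ ⟨r, hr, rfl⟩
        exact hJ.2 (Ideal.subset_span (Finset.mem_image.2 ⟨r, List.mem_toFinset.2 hr, rfl⟩))))
      have hzeq : j z = ζ := hmax _ (by rw [← show j p = η from hp]; exact ((PrimeSpectrum.le_iff_specializes _ _).1 hpz).map j.continuous)
        (by rw [← hq]; exact ((PrimeSpectrum.le_iff_specializes _ _).1 hzq).map j.continuous) hzr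
      have hzq' : z = q := j.isOpenEmbedding.injective (hzeq.trans hq.symm)
      show q' ≤ J
      refine Ideal.map_le_iff_le_comap.2 ?_
      rw [← hzq']
  have hac : a ≤ c := by
    have h1 : (a : ℕ∞) ≤ s.card := by
      rw [← ha]
      exact Ideal.height_le_card_of_mem_minimalPrimes_span_finset hmin
    exact (Nat.cast_le.1 h1).trans (Finset.card_image_le.trans (rs.toFinset_card_le.trans hlen))
  refine ⟨n, t, S, inferInstance, j, hj, hndim, by omega, ⟨q, hq⟩, Set.inter_subset_left, ?_, ?_⟩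
  · let e := j.isOpenEmbedding.isEmbedding.toHomeomorph
    refine e.isClosed_preimage.1 ?_
    refine (congrArg IsClosed (Set.ext fun z => ?_)).mpr (PrimeSpectrum.isClosed_zeroLocus (φ '' {r | r ∈ rs}))
    rw [PrimeSpectrum.mem_zeroLocus, ← Ideal.span_le]
    exact hmem z
  · have hset : closure ({ζ} : Set C) ∩ Set.range j = j '' PrimeSpectrum.zeroLocus (q.asIdeal : Set S) := by
      ext x
      constructor
      · rintro ⟨hx, z, rfl⟩
        refine ⟨z, ?_, rfl⟩
        rw [← hq] at hx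
        exact (PrimeSpectrum.le_iff_specializes q z).2 (j.isOpenEmbedding.isInducing.specializes_iff.1 (specializes_iff_mem_closure.2 hx))
      · rintro ⟨z, hz, rfl⟩
        refine ⟨?_, z, rfl⟩
        rw [← hq]
        exact specializes_iff_mem_closure.1 (((PrimeSpectrum.le_iff_specializes q z).1 hz).map j.continuous)
    have hcl := PrimeSpectrum.isClosedEmbedding_comap_of_surjective (S ⧸ q.asIdeal) (Ideal.Quotient.mk q.asIdeal)
      Ideal.Quotient.mk_surjective
    have hr := range_comap_of_surjective (S ⧸ q.asIdeal) (Ideal.Quotient.mk q.asIdeal) Ideal.Quotient.mk_surjective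
    rw [Ideal.mk_ker] at hr
    show topologicalKrullDim ↥(closure ({ζ} : Set C) ∩ Set.range j) = _
    rw [hset]
    let e := (hcl.isEmbedding.toHomeomorph.trans (Homeomorph.setCongr hr)).trans
      (j.isOpenEmbedding.isEmbedding.homeomorphImage (PrimeSpectrum.zeroLocus (q.asIdeal : Set S)))
    rw [← IsHomeomorph.topologicalKrullDim_eq e e.isHomeomorph, PrimeSpectrum.topologicalKrullDim_eq_ringKrullDim,
      ringKrullDim_eq_trdeg k t ht]

end Groth.Agent.ProperMeetLib
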